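import Cfsg.Agent.Lib.Recog.Fischer1615.Square
import Cfsg.Agent.Lib.Fischer3.SymFour
import Cfsg.Agent.S5365

/-!
# Identification of the symmetric group of degree five

With perps of three pairwise noncommuting members the local hypotheses of the recognition of the
symmetric group of degree five hold.
-/

set_option autoImplicit false

namespace Cfsg.Agent.Fischer1615

open Cfsg ClassK ClassK.Fischer

universe u

variable {G : Type u} [Group G] [Finite G] {D : Set G}

theorem perp_noncomm (h : Hyp D) {x : G} (hx : x ∈ D) {y z : G} (hy : y ∈ commSet D x)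
    (hz : z ∈ commSet D x) (hne : y ≠ z) : ¬ Commute y z := fun hc =>
  Set.eq_empty_iff_forall_notMem.1 (no_triangle h hx hy) z ⟨hz, hz.1, hne.symm, hc⟩

theorem perp_three (h : Hyp D) {x : G} (hx : x ∈ D) :
    ∃ a b, a ∈ commSet D x ∧ b ∈ commSet D x ∧ a ≠ b ∧
      commSet D x = {a, b, b * a * b} := by
  obtain ⟨p, q, r, hpq, hpr, hqr, he⟩ := Set.ncard_eq_three.1 (perp_card h hx)
  have hp : p ∈ commSet D x := he ▸ Set.mem_insert _ _
  have hq : q ∈ commSet D x := he ▸ Set.mem_insert_of_mem _ (Set.mem_insert _ _)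
  have hb := tt_braid h.setup.cls.1 hp.1 hq.1 (perp_noncomm h hx hp hq hpq)
  have hm : q * p * q ∈ commSet D x := by
    have := commSet_conj h.setup q x hp
    rwa [fix_of_commute hq.2.2.symm, conj_member h.setup hq.1] at this
  refine ⟨p, q, hp, hq, hpq, ?_⟩
  have h3 : q * p * q = r := by
    rw [he] at hm
    rcases hm with hm | hm | hm
    · exfalso
      rw [← hb] at hm
      have h1 : p * q * p * p = p * p := congrArg (· * p) hm
      rw [mul_assoc, sq_eq h.setup hp.1, mul_one] at h1
      exact hpq (by rw [eq_inv_of_mul_eq_one_left h1, inv_eq h.setup hq.1])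
    · exfalso
      have h1 : q * p * q * q = q * q := congrArg (· * q) hm
      rw [mul_assoc, sq_eq h.setup hq.1, mul_one] at h1
      exact hpq (by rw [← inv_eq_of_mul_eq_one_right h1, inv_eq h.setup hq.1])
    · exact hm
  rw [h3, he]

/-- An element of odd order fixing a member of a three element invariant set fixes all of it. -/
theorem fix_all (h : Hyp D) {z b a : G} (hb : b ∈ D) (hzo : Odd (orderOf z)) (hzb : Commute z b)
    (ha : a ∈ commSet D b) (hza : Commute z a) : ∀ c ∈ commSet D b, Commute z c := by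
  have hmem : ∀ c ∈ commSet D b, z * c * z⁻¹ ∈ commSet D b := fun c hc => by
    have := commSet_conj h.setup z b hc
    rwa [fix_of_commute hzb] at this
  intro c hc
  by_cases hca : c = a
  · exact hca ▸ hza
  by_cases hfix : z * c * z⁻¹ = c
  · exact mul_inv_eq_iff_eq_mul.1 hfix
  set d := z * c * z⁻¹ with hd
  have hda : d ≠ a := fun e => hca (conj_injective z (e.trans (fix_of_commute hza).symm))
  have h3 : commSet D b = {a, c, d} := by
    refine (Set.eq_of_subset_of_ncard_le ?_ ?_ (Set.toFinite _)).symm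
    · rintro w (rfl | rfl | rfl)
      exacts [ha, hc, hmem c hc]
    · rw [perp_card h hb]
      refine ge_of_eq (Set.ncard_eq_three.2 ⟨a, c, d, Ne.symm hca, hda.symm, Ne.symm hfix, rfl⟩)
  have hdd : z * d * z⁻¹ = c := by
    have hm := hmem d (hmem c hc)
    rw [h3] at hm
    rcases hm with hm | hm | hm
    · exact absurd (conj_injective z (hm.trans (fix_of_commute hza).symm)) hda
    · exact hm
    · exact absurd (conj_injective z hm) hfix
  have h2 : Commute (z ^ 2) c := by
    refine mul_inv_eq_iff_eq_mul.1 ?_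
    rw [pow_two, ← conj_conj, ← hd, hdd]
  obtain ⟨m, hm⟩ := hzo
  have : z = (z ^ 2) ^ (m + 1) := by
    rw [← pow_mul, show 2 * (m + 1) = orderOf z + 1 by omega, pow_succ, pow_orderOf_eq_one, one_mul]
  rw [this]
  exact h2.pow_left _

/-- An element of odd order commuting with a member and with its perp is trivial. -/
theorem eq_one_of_fix (h : Hyp D) (hZ : Subgroup.center G = ⊥) {z x : G} (hx : x ∈ D)
    (hzo : Odd (orderOf z)) (hzx : Commute z x) (hz : ∀ c ∈ commSet D x, Commute z c) : z = 1 := by
  set M := {a | a ∈ D ∧ Commute z a ∧ ∀ c ∈ commSet D a, Commute z c} with hM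
  have hclosed : ∀ a ∈ M, ∀ b ∈ commSet D a, b ∈ M := fun a ha b hb =>
    ⟨hb.1, ha.2.2 b hb, fix_all h hb.1 hzo (ha.2.2 b hb) (comm_symm ha.1 hb) ha.2.1⟩
  obtain ⟨a, b, ha, hb, hab, -⟩ := perp_three h hx
  have hxM : x ∈ M := ⟨hx, hzx, hz⟩
  have hmod : IsModule D M := ⟨fun w hw => hw.1, fun y hy hyM w hw w' hw' hc =>
    absurd (hclosed w hw y ⟨hy, fun e => hyM (e ▸ hw), hc.symm⟩) hyM⟩
  have hall := no_module h.setup hmod hxM (hclosed x hxM a ha) ha.2.1.symm
  have hc : z ∈ Subgroup.center G := by
    rw [Subgroup.mem_center_iff]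
    intro g
    have hle : Subgroup.closure D ≤ Subgroup.centralizer ({z} : Set G) :=
      (Subgroup.closure_le _).2 fun w hw =>
        Subgroup.mem_centralizer_singleton_iff.2 (hall.ge hw).2.1.symm.eq
    rw [h.setup.cls.2.2] at hle
    exact Subgroup.mem_centralizer_singleton_iff.1 (hle (Subgroup.mem_top g))
  rwa [hZ, Subgroup.mem_bot] at hc

/-- The group of the perp is symmetric of degree three. -/
theorem perp_sym (h : Hyp D) {x : G} (hx : x ∈ D) :
    Nonempty (↥(Subgroup.closure (commSet D x)) ≃* Equiv.Perm (Fin 3)) := by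
  classical
  obtain ⟨a, b, ha, hb, hab, he⟩ := perp_three h hx
  set H := Subgroup.closure (commSet D x) with hH
  have hcl : H = Subgroup.closure {a, b} := by
    refine le_antisymm ((Subgroup.closure_le _).2 ?_) (Subgroup.closure_mono ?_)
    · rw [he]
      rintro w (rfl | rfl | rfl)
      · exact Subgroup.subset_closure (Set.mem_insert _ _)
      · exact Subgroup.subset_closure (Set.mem_insert_of_mem _ rfl)
      · exact mul_mem (mul_mem (Subgroup.subset_closure (Set.mem_insert_of_mem _ rfl))
          (Subgroup.subset_closure (Set.mem_insert _ _)))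
          (Subgroup.subset_closure (Set.mem_insert_of_mem _ rfl))
    · rintro w (rfl | rfl)
      exacts [ha, hb]
  have hmem : ∀ g ∈ H, ∀ c ∈ commSet D x, g * c * g⁻¹ ∈ commSet D x := by
    intro g hg c hc
    have hgx : Commute g x := by
      have hle : H ≤ Subgroup.centralizer ({x} : Set G) := (Subgroup.closure_le _).2 fun w hw =>
        Subgroup.mem_centralizer_singleton_iff.2 hw.2.2.symm.eq
      exact Subgroup.mem_centralizer_singleton_iff.1 (hle hg)
    have := commSet_conj h.setup g x hc
    rwa [fix_of_commute hgx] at this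
  let f : H →* Equiv.Perm (commSet D x) :=
    { toFun := fun g =>
        { toFun := fun c => ⟨g * c * (g : G)⁻¹, hmem g g.2 c c.2⟩
          invFun := fun c => ⟨(g : G)⁻¹ * c * (g : G)⁻¹⁻¹, hmem _ (inv_mem g.2) c c.2⟩
          left_inv := fun c => Subtype.ext (by simp [mul_assoc])
          right_inv := fun c => Subtype.ext (by simp [mul_assoc]) }
      map_one' := by ext; simp
      map_mul' := fun g k => by ext; simp [mul_assoc] }
  have hn := perp_noncomm h hx ha hb hab
  have hinj : Function.Injective f := by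
    rw [injective_iff_map_eq_one]
    intro g hg
    have hfix : ∀ c ∈ commSet D x, Commute (g : G) c := fun c hc => by
      have := congrArg (fun σ : Equiv.Perm (commSet D x) => ((σ ⟨c, hc⟩ : commSet D x) : G)) hg
      exact mul_inv_eq_iff_eq_mul.1 this
    have hg' : (g : G) ∈ Subgroup.closure {a, b} := hcl ▸ g.2
    have haa := sq_eq h.setup ha.1
    have hbb := sq_eq h.setup hb.1
    have hbr := tt_braid h.setup.cls.1 ha.1 hb.1 hn
    rcases Fischer3.closure_pair_cases haa hbb hbr hg' with e | e | e | e | e | e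
    · exact Subtype.ext e
    · exact absurd (e ▸ hfix b hb) hn
    · exact absurd (e ▸ hfix a ha).symm hn
    · exfalso
      have h1 : Commute (b * a * b) b := e ▸ hfix b hb
      have h2 := Fischer3.commute_conj b h1
      rw [mul_inv_cancel_right, conj_member h.setup hb.1] at h2
      rw [show b * (b * a * b) * b = (b * b) * a * (b * b) by simp only [mul_assoc], hbb, one_mul,
        mul_one] at h2
      exact hn h2
    · exfalso
      have h1 : Commute (a * b) a := e ▸ hfix a ha
      exact hn (mul_left_cancel (a := a) (by simpa [mul_assoc] using h1.eq.symm))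
    · exfalso
      have h1 : Commute (b * a) b := e ▸ hfix b hb
      exact hn (mul_left_cancel (a := b) (by simpa [mul_assoc] using h1.eq.symm)).symm
  have hP : Nat.card (Equiv.Perm (commSet D x)) = 6 := by
    rw [Nat.card_perm, Nat.card_coe_set_eq, perp_card h hx]
    rfl
  have h2 : 2 ∣ Nat.card H := by
    have := Subgroup.orderOf_dvd_natCard H (Subgroup.subset_closure ha)
    rwa [h.setup.cls.1.1 a ha.1] at this
  have h3 : 3 ∣ Nat.card H := by
    have := Subgroup.orderOf_dvd_natCard H
      (mul_mem (Subgroup.subset_closure ha) (Subgroup.subset_closure hb))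
    haveI hf3 : Fact (Nat.Prime 3) := ⟨Nat.prime_three⟩
    rwa [orderOf_eq_prime (tt_noncommute_cube h.setup.cls.1 ha.1 hb.1 hn) (fun e => hab (by
      rw [eq_inv_of_mul_eq_one_left e, inv_eq h.setup hb.1]))] at this
  have h6 : 6 ≤ Nat.card H :=
    Nat.le_of_dvd Nat.card_pos (Nat.Coprime.mul_dvd_of_dvd_of_dvd (by norm_num : Nat.Coprime 2 3) h2 h3)
  have hbij : Function.Bijective f := (Nat.bijective_iff_injective_and_card f).2
    ⟨hinj, le_antisymm (Nat.card_le_card_of_injective f hinj) (by rw [hP]; exact h6)⟩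
  exact ⟨(MulEquiv.ofBijective f hbij).trans
    (((Finite.equivFin _).trans (finCongr (by rw [Nat.card_coe_set_eq, perp_card h hx]))).permCongrHom)⟩

/-- The 3-core of the centraliser of a member has order three. -/
theorem core_card (h : Hyp D) (hZ : Subgroup.center G = ⊥) {x : G} (hx : x ∈ D) :
    Nat.card (Cfsg.pCore 3 ↥(Subgroup.centralizer ({x} : Set G))) = 3 := by
  classical
  haveI : Fact (Nat.Prime 3) := ⟨Nat.prime_three⟩
  obtain ⟨a, b, ha, hb, hab, -⟩ := perp_three h hx
  set C := Subgroup.centralizer ({x} : Set G) with hC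
  set P := Cfsg.pCore 3 ↥C with hPdef
  have hS : commSet D x ⊆ C := fun c hc => Subgroup.mem_centralizer_singleton_iff.2 hc.2.2.symm.eq
  have hle : Fischer3.prodSub (commSet D x) ≤ C := by
    refine (Subgroup.closure_le _).2 ?_
    rintro _ ⟨c, hc, d, hd, rfl⟩
    exact mul_mem (hS hc) (hS hd)
  have hmem : ∀ g ∈ C, ∀ c ∈ commSet D x, g * c * g⁻¹ ∈ commSet D x := fun g hg c hc => by
    have := commSet_conj h.setup g x hc
    rwa [fix_of_commute (Subgroup.mem_centralizer_singleton_iff.1 hg)] at this
  haveI : ((Fischer3.prodSub (commSet D x)).subgroupOf C).Normal := ⟨fun z hz g => by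
    rw [Subgroup.mem_subgroupOf] at hz ⊢
    exact Fischer3.conj_mem_prodSub (hmem g g.2) hz⟩
  have hp : IsPGroup 3 (Fischer3.prodSub (commSet D x)) := by
    refine Fischer3.isPGroup_prodSub_three
      ⟨fun c hc => h.setup.cls.1.1 c hc.1, fun c hc d hd => h.setup.cls.1.2 c hc.1 d hd.1⟩
      (fun c hc d hd => hmem c (hS hc) d hd) fun c hc d hd hcd => ?_
    by_contra hne
    exact perp_noncomm h hx hc hd hne hcd
  have hab' : (⟨a * b, hle (Fischer3.mul_mem_prodSub ha hb)⟩ : ↥C) ∈ P :=
    Basics.le_pCore (hp.of_equiv (Subgroup.subgroupOfEquivOfLe hle).symm)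
      (Subgroup.mem_subgroupOf.2 (Fischer3.mul_mem_prodSub ha hb))
  have h3 : 3 ∣ Nat.card P := by
    have := Subgroup.orderOf_dvd_natCard P hab'
    rw [← Subgroup.orderOf_coe] at this
    rwa [orderOf_eq_prime (tt_noncommute_cube h.setup.cls.1 ha.1 hb.1 (perp_noncomm h hx ha hb hab))
      (fun e => hab (by rw [eq_inv_of_mul_eq_one_left e, inv_eq h.setup hb.1]))] at this
  let f : P →* Equiv.Perm (commSet D x) :=
    { toFun := fun g =>
        { toFun := fun c => ⟨(g : G) * c * (g : G)⁻¹, hmem _ g.1.2 c c.2⟩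
          invFun := fun c => ⟨(g : G)⁻¹ * c * (g : G)⁻¹⁻¹, hmem _ (inv_mem g.1.2) c c.2⟩
          left_inv := fun c => Subtype.ext (by simp [mul_assoc])
          right_inv := fun c => Subtype.ext (by simp [mul_assoc]) }
      map_one' := by ext; simp
      map_mul' := fun g k => by ext; simp [mul_assoc] }
  have hPp : IsPGroup 3 P := Basics.pCore_isPGroup 3
  have hinj : Function.Injective f := by
    rw [injective_iff_map_eq_one]
    intro g hg
    refine Subtype.ext (Subtype.ext (eq_one_of_fix h hZ hx ?_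
      (Subgroup.mem_centralizer_singleton_iff.1 g.1.2) fun c hc => ?_))
    · rw [Subgroup.orderOf_coe, Subgroup.orderOf_coe]
      obtain ⟨k, hk⟩ := IsPGroup.iff_orderOf.1 hPp g
      rw [hk]
      exact (show Odd 3 by decide).pow
    · have := congrArg (fun σ : Equiv.Perm (commSet D x) => ((σ ⟨c, hc⟩ : commSet D x) : G)) hg
      exact mul_inv_eq_iff_eq_mul.1 this
  have hdvd : Nat.card P ∣ 6 := by
    have := Subgroup.card_dvd_of_injective f hinj
    rwa [Nat.card_perm, Nat.card_coe_set_eq, perp_card h hx] at this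
  obtain ⟨k, hk⟩ := IsPGroup.iff_card.1 hPp
  rw [hk] at hdvd h3 ⊢
  have hk1 : k ≤ 1 := by
    by_contra hk1
    have := Nat.le_of_dvd (by norm_num) hdvd
    have : 3 ^ 2 ≤ 3 ^ k := Nat.pow_le_pow_right (by norm_num) (by omega)
    omega
  interval_cases k <;> simp_all

/-- The recognition. -/
theorem iso_sym_five (hsol : ∀ N : Subgroup G, N.Normal → Group.IsSolvable ↥N → N = ⊥)
    (h : Hyp D) : Nonempty (G ≃* Equiv.Perm (Fin 5)) := by
  obtain ⟨x0, hx0, d0, hd0, -⟩ := h.twin
  have hZ : Subgroup.center G = ⊥ := hsol _ inferInstance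
    (Group.isSolvable_of_comm fun a b => Subtype.ext (Subgroup.mem_center_iff.1 b.2 a))
  let e : G ≃* ↥(Subgroup.closure D) :=
    (Subgroup.topEquiv).symm.trans (MulEquiv.subgroupCongr h.setup.cls.2.2.symm)
  have h5 := S5365.result h.setup.cls.1 (fun g d hd => conj_mem h.setup g hd) ⟨x0, hx0⟩
    (fun d hd => ⟨perp_sym h hd, core_card h hZ hd⟩)
  rcases h5 with h5 | h5 <;> obtain ⟨φ⟩ := h5
  · exact ⟨e.trans φ⟩
  · exfalso
    haveI : Group.IsSolvable (Equiv.Perm (Fin 3)) := by
      haveI : Group.IsSolvable ↥(alternatingGroup (Fin 3)) := Group.isSolvable_of_comm (by decide)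
      exact Group.isSolvable_of_ker_le_range (alternatingGroup (Fin 3)).subtype Equiv.Perm.sign
        (fun g hg => ⟨⟨g, hg⟩, rfl⟩)
    haveI hSS : Group.IsSolvable (Equiv.Perm (Fin 3) × Equiv.Perm (Fin 3)) := inferInstance
    have hS : Group.IsSolvable ↥(⊤ : Subgroup G) :=
      Group.isSolvable_of_isSolvable_injective (f := ((Subgroup.topEquiv (G := G)).trans (e.trans φ)).toMonoidHom)
        (MulEquiv.injective _)
    have h1 := hsol ⊤ inferInstance hS
    have h2 : d0 = 1 := Subgroup.mem_bot.1 (h1 ▸ Subgroup.mem_top d0)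
    have h3 := h.setup.cls.1.1 d0 hd0.1
    rw [h2, orderOf_one] at h3
    omega

end Cfsg.Agent.Fischer1615
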