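import Cfsg.Agent.Lib.Recog.Fischer1615.Twin

/-!
# The perp of a member has three elements

The commuting graph is strongly regular without triangles, its parameters are powers of three and
its discriminant is a square.
-/

set_option autoImplicit false

namespace Cfsg.Agent.Fischer1615

open Cfsg ClassK ClassK.Fischer

universe u

theorem not_square_three_pow : ∀ (i b m : ℕ), b % 3 = 2 → m * m ≠ 3 ^ i * b
  | 0, b, m, hb, he => by
    have h := Nat.mul_mod m m 3
    rw [he, pow_zero, one_mul, hb] at h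
    rcases Nat.lt_or_ge (m % 3) 1 with h0 | h0
    · simp [show m % 3 = 0 by omega] at h
    · rcases (show m % 3 = 1 ∨ m % 3 = 2 by omega) with h1 | h1 <;> simp [h1] at h
  | 1, b, m, hb, he => by
    obtain ⟨a, rfl⟩ : 3 ∣ m := (Nat.prime_three.dvd_mul.1 ⟨b, by rw [he, pow_one]⟩).elim id id
    have : 3 * (a * a) = b := by linarith
    omega
  | i + 2, b, m, hb, he => by
    obtain ⟨a, rfl⟩ : 3 ∣ m :=
      (Nat.prime_three.dvd_mul.1 ⟨3 ^ (i + 1) * b, by rw [he]; ring⟩).elim id id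
    refine not_square_three_pow i b a hb ?_
    have : 9 * (a * a) = 9 * (3 ^ i * b) := by linear_combination he
    omega

theorem exponent_eq_one {n i : ℕ} (hin : i < n)
    (hs : IsSquare ((3 ^ i) ^ 2 + 4 * (3 ^ n - 3 ^ i))) : n = 1 := by
  obtain ⟨m, hm⟩ := hs
  obtain ⟨j, rfl⟩ : ∃ j, n = i + (j + 1) := ⟨n - i - 1, by omega⟩
  have hpos : 1 ≤ 3 ^ j := Nat.one_le_pow _ _ (by norm_num)
  rcases Nat.eq_zero_or_pos i with rfl | hi
  · rcases j with _ | j
    · rfl
    exfalso
    simp only [Nat.zero_add, pow_zero, one_pow, show 3 ^ (j + 1 + 1) = 9 * 3 ^ j by ring] at hm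
    have h9 : 1 ≤ 3 ^ j := Nat.one_le_pow _ _ (by norm_num)
    have hmod : m * m % 9 = 6 := by omega
    have key : ∀ r < 9, r * r % 9 ≠ 6 := by decide
    exact key _ (Nat.mod_lt m (by norm_num)) (by rw [← Nat.mul_mod]; exact hmod)
  · exfalso
    obtain ⟨l, rfl⟩ : ∃ l, i = l + 1 := ⟨i - 1, by omega⟩
    have hl : 1 ≤ 3 ^ l := Nat.one_le_pow _ _ (by norm_num)
    refine not_square_three_pow (l + 1) (3 ^ (l + 1) + 4 * 3 ^ (j + 1) - 4) m ?_ ?_
    · rw [pow_succ, pow_succ]
      omega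
    · have e1 : (3 : ℕ) ^ (l + 1 + (j + 1)) = 3 ^ (l + 1) * 3 ^ (j + 1) := pow_add 3 _ _
      rw [← hm, e1]
      have h1 : 1 ≤ 3 ^ (l + 1) := Nat.one_le_pow _ _ (by norm_num)
      have h2 : 1 ≤ 3 ^ (j + 1) := Nat.one_le_pow _ _ (by norm_num)
      zify [Nat.le_mul_of_pos_right (3 ^ (l + 1)) h2,
        show 4 ≤ 3 ^ (l + 1) + 4 * 3 ^ (j + 1) by omega]
      ring

/-- In a strongly regular graph without triangles of valence at least three the discriminant
is a square. -/
theorem isSquare_disc {α : Type*} [Finite α] [Nonempty α] (r : α → α → Prop)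
    (hirr : ∀ a, ¬ r a a) (hsymm : ∀ a b, r a b → r b a) {k μ : ℕ}
    (hk : ∀ a, {b | r a b}.ncard = k) (h3 : 3 ≤ k) (hμk : μ ≤ k)
    (hl : ∀ a b, r a b → {c | r a c ∧ r b c} = ∅)
    (hμ : ∀ a b, a ≠ b → ¬ r a b → {c | r a c ∧ r b c}.ncard = μ) :
    IsSquare (μ ^ 2 + 4 * (k - μ)) := by
  classical
  haveI := Fintype.ofFinite α
  let A : Matrix α α ℝ := Matrix.of fun a b => if r a b then 1 else 0
  let J : Matrix α α ℝ := Matrix.of fun _ _ => 1
  set v : ℝ := (Fintype.card α : ℝ) with hv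
  have hv0 : v ≠ 0 := by rw [hv]; exact_mod_cast Fintype.card_ne_zero
  have hrow : ∀ a, (∑ b, if r a b then (1 : ℝ) else 0) = k := fun a => by
    rw [Finset.sum_boole, ← hk a, Set.ncard_eq_toFinset_card', Set.toFinset_ofPred]
  have hJJ : J * J = v • J := by
    ext a b
    simp [J, v, Matrix.mul_apply]
  have hAJ : A * J = (k : ℝ) • J := by
    ext a b
    simp only [A, J, Matrix.mul_apply, Matrix.of_apply, mul_one, Matrix.smul_apply, smul_eq_mul]
    exact hrow a
  have hJA : J * A = (k : ℝ) • J := by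
    ext a b
    simp only [A, J, Matrix.mul_apply, Matrix.of_apply, one_mul, Matrix.smul_apply, smul_eq_mul,
      mul_one]
    rw [← hrow b]
    exact Finset.sum_congr rfl fun c _ => if_congr ⟨hsymm c b, hsymm b c⟩ rfl rfl
  have hAA : A * A = (k : ℝ) • 1 + (μ : ℝ) • (J - 1 - A) := by
    ext a b
    have hsum : (∑ c, A a c * A c b) = ({c | r a c ∧ r b c}.ncard : ℝ) := by
      rw [Set.ncard_eq_toFinset_card', Set.toFinset_ofPred, ← Finset.sum_boole]
      refine Finset.sum_congr rfl fun c _ => ?_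
      simp only [A, Matrix.of_apply, ite_mul, one_mul, zero_mul, ite_and]
      exact if_congr Iff.rfl (if_congr ⟨hsymm c b, hsymm b c⟩ rfl rfl) rfl
    rw [Matrix.mul_apply, hsum]
    simp only [A, J, Matrix.add_apply, Matrix.sub_apply, Matrix.smul_apply, Matrix.of_apply,
      Matrix.one_apply, smul_eq_mul]
    by_cases hab : a = b
    · subst hab
      simp [hirr a, hk a]
    by_cases hr : r a b
    · simp [hab, hr, hl a b hr]
    · simp [hab, hr, hμ a b hab hr]
  have hcount : (k : ℝ) * k = k + μ * (v - 1 - k) := by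
    have h1 : A * A * J = ((k : ℝ) • (1 : Matrix α α ℝ) + (μ : ℝ) • (J - 1 - A)) * J := by rw [hAA]
    obtain ⟨a⟩ := ‹Nonempty α›
    have h2 := congrFun (congrFun h1 a) a
    simp only [Matrix.mul_assoc, hAJ, Matrix.mul_smul, add_mul, sub_mul, Matrix.smul_mul, one_mul,
      hJJ, Matrix.add_apply, Matrix.sub_apply, Matrix.smul_apply, smul_eq_mul] at h2
    simp only [J, Matrix.of_apply] at h2
    linarith
  set N : ℕ := μ ^ 2 + 4 * (k - μ) with hN
  have hNr : (N : ℝ) = (μ : ℝ) ^ 2 + 4 * ((k : ℝ) - μ) := by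
    rw [hN]; push_cast [Nat.cast_sub hμk]; ring
  set δ : ℝ := Real.sqrt N with hδ
  have hδ2 : δ * δ = N := Real.mul_self_sqrt (Nat.cast_nonneg N)
  have hN0 : N ≠ 0 := by
    intro h0
    rw [hN] at h0
    have : μ = 0 := by
      by_contra hh
      have : 0 < μ ^ 2 := by positivity
      omega
    omega
  have hδ0 : δ ≠ 0 := fun e => hN0 (by
    have : (N : ℝ) = 0 := by rw [← hδ2, e, mul_zero]
    exact_mod_cast this)
  set c : ℝ := (2 * k + μ) / v with hc
  set P : Matrix α α ℝ := 1 - (1 / v) • J with hP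
  set M : Matrix α α ℝ := (2 : ℝ) • A + (μ : ℝ) • 1 - c • J with hM
  have hMJ : M * J = 0 := by
    rw [hM, sub_mul, add_mul, Matrix.smul_mul, Matrix.smul_mul, Matrix.smul_mul, hAJ, hJJ, one_mul,
      smul_smul, smul_smul, ← add_smul, ← sub_smul, hc, div_mul_cancel₀ _ hv0]
    simp
  have hJM : J * M = 0 := by
    rw [hM, mul_sub, mul_add, Matrix.mul_smul, Matrix.mul_smul, Matrix.mul_smul, hJA, hJJ, mul_one,
      smul_smul, smul_smul, ← add_smul, ← sub_smul, hc, div_mul_cancel₀ _ hv0]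
    simp
  have hPP : P * P = P := by
    rw [hP, sub_mul, mul_sub, mul_sub, one_mul, one_mul, mul_one, Matrix.smul_mul, Matrix.mul_smul,
      hJJ, smul_smul, smul_smul]
    have : 1 / v * (1 / v) * v = 1 / v := by field_simp
    rw [this, sub_self, sub_zero]
  have hPM : P * M = M := by
    rw [hP, sub_mul, one_mul, Matrix.smul_mul, hJM, smul_zero, sub_zero]
  have hMP : M * P = M := by
    rw [hP, mul_sub, mul_one, Matrix.mul_smul, hMJ, smul_zero, sub_zero]
  have hMM : M * M = (δ * δ) • P := by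
    rw [hδ2, hNr, hP, hM]
    simp only [sub_mul, mul_sub, add_mul, mul_add, Matrix.smul_mul, Matrix.mul_smul, one_mul,
      mul_one, hAA, hAJ, hJA, hJJ, smul_add, smul_sub, smul_smul]
    rw [hc]
    match_scalars <;> field_simp <;> nlinarith [hcount]
  set E : Matrix α α ℝ := (1 / 2 : ℝ) • P + (1 / (2 * δ)) • M with hE
  have hEE : E * E = E := by
    rw [hE]
    simp only [add_mul, mul_add, Matrix.smul_mul, Matrix.mul_smul, hPP, hPM, hMP, hMM, smul_smul]
    match_scalars <;> field_simp <;> ring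
  obtain ⟨n, hn⟩ : ∃ n : ℕ, E.trace = (n : ℝ) := by
    have hid : IsIdempotentElem (Matrix.toLin' E) := by
      show Matrix.toLin' E * Matrix.toLin' E = _
      rw [Module.End.mul_eq_comp, ← Matrix.toLin'_mul, hEE]
    exact ⟨_, (Matrix.trace_toLin'_eq E).symm.trans (LinearMap.IsIdempotentElem.isProj_range _ hid).trace⟩
  have hA0 : A.trace = 0 := by simp [Matrix.trace, A, hirr]
  have hJv : J.trace = v := by simp [Matrix.trace, J, v]
  have h1v : (1 : Matrix α α ℝ).trace = v := by rw [Matrix.trace_one, hv]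
  rw [hE, hP, hM] at hn
  simp only [Matrix.trace_add, Matrix.trace_sub, Matrix.trace_smul, hA0, hJv, h1v,
    smul_eq_mul] at hn
  rw [hc, div_mul_cancel₀ _ hv0, div_mul_cancel₀ _ hv0] at hn
  set X : ℝ := (k : ℝ) * k + k * μ - 3 * k with hX
  have hkey : δ * (2 * n - (v - 1)) = X := by
    rw [← hn]
    field_simp
    rw [hX]
    linarith
  have hX0 : X ≠ 0 := by
    have : (3 : ℝ) ≤ k := by exact_mod_cast h3
    have h0 : (0 : ℝ) ≤ k * μ := by positivity
    have : (0 : ℝ) < X ∨ (μ = 0 ∧ k = 3) := by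
      rcases eq_or_lt_of_le h3 with h | h
      · rcases Nat.eq_zero_or_pos μ with h' | h'
        · exact Or.inr ⟨h', h.symm⟩
        · refine Or.inl ?_
          have : (1 : ℝ) ≤ μ := by exact_mod_cast h'
          rw [hX, ← h]; push_cast; linarith
      · refine Or.inl ?_
        have : (4 : ℝ) ≤ k := by exact_mod_cast h
        rw [hX]; nlinarith
    rcases this with h | ⟨h, h'⟩
    · exact h.ne'
    · subst h; subst h'
      norm_num at hcount
  have hd : (2 * n - (v - 1) : ℝ) ≠ 0 := fun e => hX0 (by rw [← hkey, e, mul_zero])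
  have hrat : δ = (((k : ℚ) * k + k * μ - 3 * k) / (2 * n - ((Fintype.card α : ℚ) - 1)) : ℚ) := by
    rw [eq_comm]
    push_cast
    rw [← hv, ← hX, ← hkey, mul_div_assoc, div_self hd, mul_one]
  rw [← Rat.isSquare_natCast_iff]
  refine ⟨((k : ℚ) * k + k * μ - 3 * k) / (2 * n - ((Fintype.card α : ℚ) - 1)), ?_⟩
  have := hδ2
  rw [hrat] at this
  exact_mod_cast this.symm

variable {G : Type u} [Group G] [Finite G] {D : Set G}

/-- A pairwise noncommuting conjugation closed set has three-power size. -/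
theorem card_three_power {S : Set G} (hS : IsThreeTranspositionSet S)
    (hconj : ∀ x ∈ S, ∀ y ∈ S, x * y * x⁻¹ ∈ S) (hnc : ∀ x ∈ S, ∀ y ∈ S, Commute x y → x = y)
    (hne : S.Nonempty) : ∃ n, S.ncard = 3 ^ n := by
  haveI : Fact (Nat.Prime 3) := ⟨Nat.prime_three⟩
  obtain ⟨a, ha⟩ := hne
  set Q := (Fischer3.prodSub S).map (ConjAct.toConjAct (G := G)).toMonoidHom with hQ
  have hp : IsPGroup 3 Q := (Fischer3.isPGroup_prodSub_three hS hconj hnc).map _
  have hle : Fischer3.prodSub S ≤ Subgroup.closure S := by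
    refine (Subgroup.closure_le _).2 ?_
    rintro _ ⟨x, hx, y, hy, rfl⟩
    exact mul_mem (Subgroup.subset_closure hx) (Subgroup.subset_closure hy)
  have horb : MulAction.orbit Q a = S := by
    ext s
    constructor
    · rintro ⟨⟨_, g, hg, rfl⟩, rfl⟩
      exact (Fischer3.conj_closure_mem hS hconj (hle hg) a ha).1
    · intro hs
      by_cases hsa : s = a
      · rw [hsa]
        exact MulAction.mem_orbit_self a
      · refine ⟨⟨_, a * s, Fischer3.mul_mem_prodSub ha hs, rfl⟩, ?_⟩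
        show a * s * a * (a * s)⁻¹ = s
        rw [mul_inv_rev, tt_inv hS hs, tt_inv hS ha]
        calc a * s * a * (s * a) = a * (s * a * s) * a := by simp only [mul_assoc]
          _ = a * (a * s * a) * a := by
            rw [tt_braid hS ha hs fun hc => hsa (hnc a ha s hs hc).symm]
          _ = (a * a) * s * (a * a) := by simp only [mul_assoc]
          _ = s := by rw [tt_mul_self hS ha, one_mul, mul_one]
  obtain ⟨n, hn⟩ := hp.card_orbit a
  exact ⟨n, by rw [← Nat.card_coe_set_eq, ← horb, hn]⟩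

/-- Each perp has three members. -/
theorem perp_card (h : Hyp D) {x : G} (hx : x ∈ D) : (commSet D x).ncard = 3 := by
  obtain ⟨x0, hx0, d0, hd0, e0, he0, hne, ht⟩ := h.twin
  have hle : ∀ a ∈ D, ∀ b ∈ D, (commSet D a).ncard ≤ (commSet D b).ncard := by
    intro a ha b hb
    obtain ⟨g, hg⟩ := Fischer.exists_conj h.setup ha hb
    refine Set.ncard_le_ncard_of_injOn (fun y => g * y * g⁻¹) (fun y hy => ?_)
      (fun _ _ _ _ e => conj_injective g e) (Set.toFinite _)
    have := commSet_conj h.setup g a hy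
    rwa [hg] at this
  have hk : ∀ a ∈ D, (commSet D a).ncard = (commSet D x).ncard :=
    fun a ha => le_antisymm (hle a ha x hx) (hle x hx a ha)
  have htt : ∀ S : Set G, S ⊆ D → IsThreeTranspositionSet S := fun S hS =>
    ⟨fun a ha => h.setup.cls.1.1 a (hS ha), fun a ha b hb => h.setup.cls.1.2 a (hS ha) b (hS hb)⟩
  have hcl : ∀ a : G, ∀ y ∈ commSet D a, ∀ z ∈ commSet D a, y * z * y⁻¹ ∈ commSet D a := by
    intro a y hy z hz
    have := commSet_conj h.setup y a hz
    rwa [fix_of_commute hy.2.2.symm] at this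
  have hnc : ∀ a ∈ D, ∀ y ∈ commSet D a, ∀ z ∈ commSet D a, Commute y z → y = z := by
    intro a ha y hy z hz hc
    by_contra hyz
    exact Set.eq_empty_iff_forall_notMem.1 (no_triangle h ha hy) z ⟨hz, hz.1, Ne.symm hyz, hc⟩
  obtain ⟨n, hn⟩ : ∃ n, (commSet D x).ncard = 3 ^ n := by
    refine card_three_power (htt _ fun a ha => ha.1) (hcl x) (hnc x hx) ?_
    exact (Set.ncard_pos (Set.toFinite _)).1
      ((hk x0 hx0) ▸ (Set.ncard_pos (Set.toFinite _)).2 ⟨d0, hd0⟩)
  have hnn : ¬ Commute d0 e0 := ht.noncomm he0 hne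
  obtain ⟨i, hi⟩ : ∃ i, (commSet D d0 ∩ commSet D e0).ncard = 3 ^ i := by
    refine card_three_power (htt _ fun a ha => ha.1.1)
      (fun y hy z hz => ⟨hcl d0 y hy.1 z hz.1, hcl e0 y hy.2 z hz.2⟩)
      (fun y hy z hz => hnc d0 hd0.1 y hy.1 z hz.1) ⟨x0, comm_symm hx0 hd0, comm_symm hx0 he0⟩
  have hμle : ∀ a ∈ D, ∀ b ∈ D, ¬ Commute a b → ∀ c ∈ D, ∀ d ∈ D, ¬ Commute c d →
      (commSet D a ∩ commSet D b).ncard ≤ (commSet D c ∩ commSet D d).ncard := by
    intro a ha b hb hab c hc d hd hcd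
    obtain ⟨g, hg1, hg2⟩ := pair_transitive h.setup ha hb hc hd hab hcd
    refine Set.ncard_le_ncard_of_injOn (fun y => g * y * g⁻¹) (fun y hy => ⟨?_, ?_⟩)
      (fun _ _ _ _ e => conj_injective g e) (Set.toFinite _)
    · exact hg1 ▸ commSet_conj h.setup g a hy.1
    · exact hg2 ▸ commSet_conj h.setup g b hy.2
  have hin : i < n := by
    by_contra hge
    have h1 : commSet D d0 ∩ commSet D e0 = commSet D d0 :=
      Set.eq_of_subset_of_ncard_le Set.inter_subset_left
        (by rw [hi, hk d0 hd0.1, hn]; exact Nat.pow_le_pow_right (by norm_num) (by omega))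
        (Set.toFinite _)
    have h2 : commSet D d0 = commSet D e0 :=
      Set.eq_of_subset_of_ncard_le (Set.inter_eq_left.1 h1)
        (by rw [hk d0 hd0.1, hk e0 he0.1]) (Set.toFinite _)
    exact hne (eq_of_commSet_eq h hd0.1 he0.1 h2)
  have hsq : IsSquare ((3 ^ i) ^ 2 + 4 * (3 ^ n - 3 ^ i)) := by
    haveI : Nonempty D := ⟨⟨x, hx⟩⟩
    have e1 : ∀ a : D, ({b : D | (b : G) ∈ commSet D a} : Set D).ncard = (commSet D a).ncard := by
      intro a
      rw [← Set.ncard_image_of_injective _ Subtype.val_injective]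
      congr 1
      ext b
      exact ⟨fun ⟨c, hc, e⟩ => e ▸ hc, fun hb => ⟨⟨b, hb.1⟩, hb, rfl⟩⟩
    refine isSquare_disc (α := D) (fun a b => (b : G) ∈ commSet D a) (fun a ha => ha.2.1 rfl)
      (fun a b hb => comm_symm a.2 hb) (fun a => (e1 a).trans ((hk a a.2).trans hn)) ?_
      (Nat.pow_le_pow_right (by norm_num) hin.le) (fun a b hb => ?_) (fun a b hab hb => ?_)
    · calc 3 = 3 ^ 1 := by norm_num
        _ ≤ 3 ^ n := Nat.pow_le_pow_right (by norm_num) (by omega)
    · exact Set.eq_empty_iff_forall_notMem.2 fun c hc =>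
        Set.eq_empty_iff_forall_notMem.1 (no_triangle h a.2 hb) c hc
    · have hnab : ¬ Commute (a : G) b := fun hc => hb ⟨b.2, fun e => hab (Subtype.ext e.symm), hc⟩
      rw [← hi, ← le_antisymm (hμle a a.2 b b.2 hnab d0 hd0.1 e0 he0.1 hnn)
        (hμle d0 hd0.1 e0 he0.1 hnn a a.2 b b.2 hnab),
        ← Set.ncard_image_of_injective _ Subtype.val_injective]
      congr 1
      ext c
      exact ⟨fun ⟨d, hd, e⟩ => e ▸ hd, fun hc => ⟨⟨c, hc.1.1⟩, hc, rfl⟩⟩
  rw [hn, exponent_eq_one hin hsq, pow_one]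

end Cfsg.Agent.Fischer1615
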