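import Cfsg.Agent.Lib.Fischer3.Orbits
import Cfsg.Agent.Lib.ClassK.FischerHyp
import Cfsg.Agent.Lib.ClassK.FischerLocal

/-!
# Twins in the perp of a 3-transposition

Two members of the perp of `x` are twins if they have the same perp inside the perp of `x`.  If a
3-transposition group without 3-core has such twins, then no two commuting members have a common
perp member.
-/

set_option autoImplicit false

namespace Cfsg.Agent.Fischer1615

open Cfsg ClassK ClassK.Fischer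

universe u

variable {G : Type u} [Group G] [Finite G] {D : Set G}

/-- `d` and `e` have the same perp inside the perp of `x`. -/
def Tw (D : Set G) (x d e : G) : Prop :=
  commSet D x ∩ commSet D d = commSet D x ∩ commSet D e

theorem comm_symm {x d : G} (hx : x ∈ D) (hd : d ∈ commSet D x) : x ∈ commSet D d :=
  ⟨hx, hd.2.1.symm, hd.2.2.symm⟩

theorem Tw.mem {x d e a : G} (h : Tw D x d e) (ha : a ∈ commSet D x) (ha' : a ∈ commSet D d) :
    a ∈ commSet D e :=
  (Set.ext_iff.1 h a).1 ⟨ha, ha'⟩ |>.2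

theorem Tw.noncomm {x d e : G} (h : Tw D x d e) (he : e ∈ commSet D x) (hne : d ≠ e) :
    ¬ Commute d e :=
  fun hc => (h.mem he ⟨he.1, hne.symm, hc⟩).2.1 rfl

theorem commSet_conj_iff (h : Setup D) (g x y : G) :
    g * y * g⁻¹ ∈ commSet D (g * x * g⁻¹) ↔ y ∈ commSet D x :=
  ⟨fun hy => by simpa only [conj_inv_conj] using commSet_conj h g⁻¹ _ hy, commSet_conj h g x⟩

theorem Tw.conj (h : Setup D) {x d e : G} (ht : Tw D x d e) (g : G) :
    Tw D (g * x * g⁻¹) (g * d * g⁻¹) (g * e * g⁻¹) := by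
  ext a
  obtain ⟨b, rfl⟩ : ∃ b, g * b * g⁻¹ = a := ⟨g⁻¹ * a * g, by group⟩
  simp only [Set.mem_inter_iff, commSet_conj_iff h]
  exact Set.ext_iff.1 ht b

theorem fix_of_commute {g a : G} (hc : Commute g a) : g * a * g⁻¹ = a := by
  rw [hc.eq, mul_inv_cancel_right]

theorem conj_member (h : Setup D) {g : G} (hg : g ∈ D) (a : G) : g * a * g⁻¹ = g * a * g := by
  rw [inv_eq h hg]

/-- Every member of the perp of `x` with a twin has the property that all its twins commute with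
`z`. -/
def Full (D : Set G) (x z q : G) : Prop :=
  ∀ r ∈ commSet D x, Tw D x q r → Commute r z

/-- A common perp member with a twin not commuting with `z`. -/
def Partial (D : Set G) (x z p : G) : Prop :=
  p ∈ commSet D x ∧ Commute p z ∧ ∃ r ∈ commSet D x, Tw D x p r ∧ ¬ Commute r z

/-- A common perp member for which `x` and `z` are twins. -/
def Link (D : Set G) (x z q : G) : Prop :=
  x ∈ commSet D q ∧ z ∈ commSet D q ∧ q ∈ D ∧ Tw D q x z

theorem Full.conj (h : Setup D) {x z q : G} (hf : Full D x z q) (g : G) :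
    Full D (g * x * g⁻¹) (g * z * g⁻¹) (g * q * g⁻¹) := by
  intro r hr ht
  obtain ⟨b, rfl⟩ : ∃ b, g * b * g⁻¹ = r := ⟨g⁻¹ * r * g, by group⟩
  refine (Fischer.commute_conj_iff g b z).2 (hf b ((commSet_conj_iff h g x b).1 hr) ?_)
  simpa only [conj_inv_conj] using ht.conj h g⁻¹

theorem Partial.conj (h : Setup D) {x z p : G} (hp : Partial D x z p) (g : G) :
    Partial D (g * x * g⁻¹) (g * z * g⁻¹) (g * p * g⁻¹) := by
  obtain ⟨h1, h2, r, hr, ht, hrz⟩ := hp
  exact ⟨commSet_conj h g x h1, (Fischer.commute_conj_iff g p z).2 h2, g * r * g⁻¹,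
    commSet_conj h g x hr, ht.conj h g, (Fischer.commute_conj_iff g r z).not.2 hrz⟩

theorem Link.conj (h : Setup D) {x z q : G} (hq : Link D x z q) (g : G) :
    Link D (g * x * g⁻¹) (g * z * g⁻¹) (g * q * g⁻¹) :=
  ⟨commSet_conj h g q hq.1, commSet_conj h g q hq.2.1, conj_mem h g hq.2.2.1, hq.2.2.2.conj h g⟩

theorem Link.mem {x z q : G} (hx : x ∈ D) (hq : Link D x z q) : q ∈ commSet D x :=
  ⟨hq.2.2.1, hq.1.2.1.symm, hq.1.2.2.symm⟩

/-- A full link excludes partial members. -/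
theorem false_of_full_partial (h : Setup D) {x z q p : G} (hx : x ∈ D) (hq : Link D x z q)
    (hf : Full D x z q) (hp : Partial D x z p) : False := by
  have hqx := hq.mem hx
  obtain ⟨hpx, hpz, r, hr, htr, hrz⟩ := hp
  by_cases hqp : q = p
  · exact hrz (hf r hr (hqp ▸ htr))
  by_cases hc : Commute q p
  · have hqr : q ∈ commSet D r := htr.mem hqx ⟨hqx.1, hqp, hc.symm⟩
    have : r ∈ commSet D z := hq.2.2.2.mem ⟨hr.1, hqr.2.1.symm, hqr.2.2.symm⟩ hr
    exact hrz this.2.2.symm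
  · have hxp : p * x * p⁻¹ = x := fix_of_commute hpx.2.2.symm
    have hzp : p * z * p⁻¹ = z := fix_of_commute hpz
    have hxq : q * x * q⁻¹ = x := fix_of_commute hq.1.2.2
    have hzq : q * z * q⁻¹ = z := fix_of_commute hq.2.1.2.2
    have hf' := hf.conj h p
    rw [hxp, hzp] at hf'
    obtain ⟨-, -, r', hr', htr', hrz'⟩ :=
      Partial.conj h ⟨hpx, hpz, r, hr, htr, hrz⟩ q
    rw [hxq] at hr' htr'
    rw [hzq] at hrz'
    have e : p * q * p⁻¹ = q * p * q⁻¹ := by
      rw [conj_member h hpx.1, conj_member h hqx.1]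
      exact tt_braid h.cls.1 hpx.1 hqx.1 (fun hh => hc hh.symm)
    rw [e] at hf'
    exact hrz' (hf' r' hr' htr')

/-- Noncommuting pairs form one orbit. -/
theorem pair_transitive (h : Setup D) {x z x' z' : G} (hx : x ∈ D) (hz : z ∈ D) (hx' : x' ∈ D)
    (hz' : z' ∈ D) (hn : ¬ Commute x z) (hn' : ¬ Commute x' z') :
    ∃ g : G, g * x * g⁻¹ = x' ∧ g * z * g⁻¹ = z' := by
  obtain ⟨g, hg⟩ := Fischer.exists_conj h hx hx'
  obtain ⟨k, hk, hkz⟩ := (rank_three h hx').2 _ (conj_mem h g hz) z' hz'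
    (hg ▸ (Fischer.commute_conj_iff g x z).not.2 hn) hn'
  refine ⟨k * g, ?_, ?_⟩
  · rw [← conj_conj, hg, fix_of_commute hk]
  · rw [← conj_conj, hkz]

/-- The standing hypotheses. -/
structure Hyp (D : Set G) : Prop where
  setup : Setup D
  core : Cfsg.pCore 3 G = ⊥
  twin : ∃ x ∈ D, ∃ d ∈ commSet D x, ∃ e ∈ commSet D x, d ≠ e ∧ Tw D x d e

/-- Members with equal perps are equal. -/
theorem eq_of_commSet_eq (h : Hyp D) {a b : G} (ha : a ∈ D) (hb : b ∈ D)
    (he : commSet D a = commSet D b) : a = b := by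
  have hW : Fischer3.RelW D a b := fun e hed =>
    ⟨fun hh => ((Set.ext_iff.1 he e).1 ⟨hed, hh.1, hh.2⟩).2,
      fun hh => ((Set.ext_iff.1 he e).2 ⟨hed, hh.1, hh.2⟩).2⟩
  have hm := (Fischer3.relW_iff (Fischer3.class_group h.setup.cls) ha hb).1 hW
  rw [h.core, Subgroup.mem_bot] at hm
  rw [← inv_eq h.setup hb, inv_eq_of_mul_eq_one_right hm]

/-- Every commuting pair has twins. -/
theorem exists_twin (h : Hyp D) {x d : G} (hx : x ∈ D) (hd : d ∈ commSet D x) :
    ∃ e ∈ commSet D x, e ≠ d ∧ Tw D x d e := by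
  obtain ⟨x0, hx0, d0, hd0, e0, he0, hne, ht⟩ := h.twin
  obtain ⟨g, hg⟩ := Fischer.exists_conj h.setup hx0 hx
  have h1 := commSet_conj h.setup g x0 hd0
  rw [hg] at h1
  obtain ⟨k, hk, hkd⟩ := (rank_three h.setup hx).1 _ h1.1 d hd.1 h1.2.1 hd.2.1 h1.2.2 hd.2.2
  have hK : (k * g) * x0 * (k * g)⁻¹ = x := by rw [← conj_conj, hg, fix_of_commute hk]
  have hKd : (k * g) * d0 * (k * g)⁻¹ = d := by rw [← conj_conj, hkd]
  refine ⟨(k * g) * e0 * (k * g)⁻¹, ?_, fun e => hne (conj_injective _ (hKd.trans e.symm)), ?_⟩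
  · have := commSet_conj h.setup (k * g) x0 he0
    rwa [hK] at this
  · have := ht.conj h.setup (k * g)
    rwa [hK, hKd] at this

/-- Every noncommuting pair has a link. -/
theorem exists_link (h : Hyp D) {x z : G} (hx : x ∈ D) (hz : z ∈ D) (hn : ¬ Commute x z) :
    ∃ q, Link D x z q := by
  obtain ⟨x0, hx0, d0, hd0, e0, he0, hne, ht⟩ := h.twin
  obtain ⟨g, hg1, hg2⟩ := pair_transitive h.setup hd0.1 he0.1 hx hz (ht.noncomm he0 hne) hn
  exact ⟨g * x0 * g⁻¹, hg1 ▸ hg2 ▸ Link.conj h.setup ⟨hd0, he0, hx0, ht⟩ g⟩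

/-- No link is full. -/
theorem not_full (h : Hyp D) {x z q : G} (hx : x ∈ D) (hz : z ∈ D) (hn : ¬ Commute x z)
    (hq : Link D x z q) : ¬ Full D x z q := by
  intro hf
  obtain ⟨x0, hx0, d0, hd0, e0, he0, hne, ht⟩ := h.twin
  obtain ⟨w, hw, p, hwx, hp⟩ : ∃ w ∈ D, ∃ p, ¬ Commute x0 w ∧ Partial D x0 w p := by
    have key : ∀ d ∈ commSet D x0, ∀ e ∈ commSet D x0, d ≠ e → Tw D x0 d e →
        ¬ commSet D d ⊆ commSet D e → ∃ w ∈ D, ∃ p, ¬ Commute x0 w ∧ Partial D x0 w p := by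
      intro d hd e he hne ht hsub
      obtain ⟨w, hw, hwe⟩ := Set.not_subset.1 hsub
      have hwx0 : w ≠ x0 := fun e' => hwe (e' ▸ comm_symm hx0 he)
      have hwn : ¬ Commute x0 w := fun hc => hwe (ht.mem ⟨hw.1, hwx0, hc⟩ hw)
      refine ⟨w, hw.1, d, hwn, hd, hw.2.2, e, he, ht, fun hc => hwe ⟨hw.1, ?_, hc⟩⟩
      rintro rfl
      exact ht.noncomm he hne hw.2.2
    by_cases hsub : commSet D d0 ⊆ commSet D e0
    · refine key e0 he0 d0 hd0 hne.symm ht.symm fun hsub' => hne ?_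
      exact eq_of_commSet_eq h hd0.1 he0.1 (hsub.antisymm hsub')
    · exact key d0 hd0 e0 he0 hne ht hsub
  obtain ⟨g, hg1, hg2⟩ := pair_transitive h.setup hx hz hx0 hw hn hwx
  exact false_of_full_partial h.setup hx0 (hg1 ▸ hg2 ▸ hq.conj h.setup g)
    (hg1 ▸ hg2 ▸ hf.conj h.setup g) hp

/-- Two commuting members have no common perp member. -/
theorem no_triangle (h : Hyp D) {x d : G} (hx : x ∈ D) (hd : d ∈ commSet D x) :
    commSet D x ∩ commSet D d = ∅ := by
  by_contra hne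
  obtain ⟨y, hyx, hyd⟩ := Set.nonempty_iff_ne_empty.2 hne
  have hxd := comm_symm hx hd
  have hdy := comm_symm hd.1 hyd
  have hxy := comm_symm hx hyx
  have E := h.setup.cls.1
  obtain ⟨x', hx', hne', htd⟩ := exists_twin h hd.1 hxd
  obtain ⟨x'', hx'', hne'', hty⟩ := exists_twin h hyx.1 hxy
  have hn' : ¬ Commute x x' := htd.noncomm hx' hne'.symm
  have hn'' : ¬ Commute x x'' := hty.noncomm hx'' hne''.symm
  obtain ⟨e, he, hte, hen⟩ : ∃ e ∈ commSet D x, Tw D x d e ∧ ¬ Commute e x' := by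
    have := not_full h hx hx'.1 hn' (q := d) ⟨hxd, hx', hd.1, htd⟩
    simpa only [Full, not_forall, exists_prop] using this
  obtain ⟨e'', he'', hte'', hen''⟩ : ∃ e'' ∈ commSet D x, Tw D x y e'' ∧ ¬ Commute e'' x'' := by
    have := not_full h hx hx''.1 hn'' (q := y) ⟨hxy, hx'', hyx.1, hty⟩
    simpa only [Full, not_forall, exists_prop] using this
  have hyx' : y ∈ commSet D x' := htd.mem hyd hyx
  have hdx'' : d ∈ commSet D x'' := hty.mem hdy hd
  have hye : y ∈ commSet D e := hte.mem hyx hyd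
  have hde'' : d ∈ commSet D e'' := hte''.mem hd hdy
  have hex'' : Commute e x'' :=
    (hty.mem ⟨he.1, hye.2.1.symm, hye.2.2.symm⟩ he).2.2.symm
  have hex' : Commute e'' x' :=
    (htd.mem ⟨he''.1, hde''.2.1.symm, hde''.2.2.symm⟩ he'').2.2.symm
  have hnxx : ¬ Commute x' x'' := by
    intro hc
    have hne2 : x' ≠ x'' := fun e' => hen (e' ▸ hex'')
    have : x' ∈ commSet D x := Tw.mem hty.symm ⟨hx'.1, hyx'.2.1.symm, hyx'.2.2.symm⟩
      ⟨hx'.1, hne2, hc.symm⟩
    exact hn' this.2.2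
  obtain ⟨t, ht1⟩ : ∃ t, x'' * x' * x''⁻¹ = t := ⟨_, rfl⟩
  have ht2 : x' * x'' * x'⁻¹ = t := by
    rw [← ht1, conj_member h.setup hx'.1, conj_member h.setup hx''.1]
    exact tt_braid E hx'.1 hx''.1 hnxx
  have htD : t ∈ D := ht1 ▸ conj_mem h.setup x'' hx'.1
  have hdt : Commute d t := by
    rw [← ht1]
    exact (hdx''.2.2.symm.mul_right hx'.2.2).mul_right hdx''.2.2.symm.inv_right
  have hyt : Commute y t := by
    rw [← ht1]
    exact (hx''.2.2.mul_right hyx'.2.2.symm).mul_right hx''.2.2.inv_right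
  have hte0 : ¬ Commute e t := by
    have := (Fischer.commute_conj_iff x'' e x').not.2 hen
    rwa [ht1, fix_of_commute hex''.symm] at this
  have hte2 : ¬ Commute e'' t := by
    have := (Fischer.commute_conj_iff x' e'' x'').not.2 hen''
    rwa [ht2, fix_of_commute hex'.symm] at this
  have htx : ¬ Commute x t := by
    intro hc
    have h1 : t ≠ x := fun e' => hte0 (e'.symm ▸ he.2.2.symm)
    have h2 : t ≠ d := fun e' => hte2 (e'.symm ▸ hde''.2.2)
    have := htd.mem ⟨htD, h2, hdt⟩ ⟨htD, h1, hc⟩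
    have h3 : Commute (x' * x'' * x'⁻¹) (x' * x' * x'⁻¹) := by
      rw [ht2, mul_inv_cancel_right]
      exact this.2.2.symm
    exact hnxx ((Fischer.commute_conj_iff x' x'' x').1 h3).symm
  obtain ⟨q, hq⟩ := exists_link h hx htD htx
  have hqx := hq.mem hx
  have key : ∀ p ∈ commSet D x, ∀ r ∈ commSet D x, Tw D x p r → ¬ Commute r t →
      q ≠ p → ¬ Commute q p := by
    intro p hp r hr htr hrt hne2 hc
    have hqr : q ∈ commSet D r := htr.mem hqx ⟨hqx.1, hne2, hc.symm⟩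
    exact hrt (hq.2.2.2.mem ⟨hr.1, hqr.2.1.symm, hqr.2.2.symm⟩ hr).2.2.symm
  have hqd : q ≠ d := by
    rintro rfl
    exact hte2 (hq.2.2.2.mem ⟨he''.1, hde''.2.1.symm, hde''.2.2.symm⟩ he'').2.2.symm
  have hqy : q ≠ y := by
    rintro rfl
    exact hte0 (hq.2.2.2.mem ⟨he.1, hye.2.1.symm, hye.2.2.symm⟩ he).2.2.symm
  have hnqd := key d hd e he hte hte0 hqd
  have hnqy := key y hyx e'' he'' hte'' hte2 hqy
  have hqq := sq_eq h.setup hqx.1
  obtain ⟨q', hq'⟩ : ∃ q', (y * d) * q * (y * d)⁻¹ = q' := ⟨_, rfl⟩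
  have hl : Link D x t q' := by
    have := hq.conj h.setup (y * d)
    rwa [hq', fix_of_commute (hyx.2.2.symm.mul_left hd.2.2.symm),
      fix_of_commute (hyt.mul_left hdt)] at this
  have hqdq : d * q * d⁻¹ = q * d * q⁻¹ := by
    rw [conj_member h.setup hd.1, conj_member h.setup hqx.1]
    exact tt_braid E hd.1 hqx.1 fun hh => hnqd hh.symm
  have hyqy : y * q * y⁻¹ = q * y * q⁻¹ := by
    rw [conj_member h.setup hyx.1, conj_member h.setup hqx.1]
    exact tt_braid E hyx.1 hqx.1 fun hh => hnqy hh.symm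
  have hq'2 : q' = y * (q * d * q⁻¹) * y⁻¹ := by
    rw [← hq', ← hqdq]; group
  have hq3 : q = y * (q * y * q⁻¹) * y⁻¹ := by
    rw [← hyqy, inv_eq h.setup hyx.1]
    have hyy := sq_eq h.setup hyx.1
    calc q = (y * y) * q * (y * y) := by rw [hyy, one_mul, mul_one]
      _ = y * (y * q * y) * y := by group
  have hcq : Commute q q' := by
    rw [hq'2]
    conv => congr; rw [hq3]
    exact (Fischer.commute_conj_iff y _ _).2 ((Fischer.commute_conj_iff q y d).2 hdy.2.2.symm.symm)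
  have hne3 : q' ≠ q := by
    intro he'
    rw [hq'2] at he'
    conv at he' => rhs; rw [hq3]
    exact hyd.2.1 (conj_injective q (conj_injective y he')).symm
  refine not_full h hx htD htx hq fun r hr htr => ?_
  have hq'x := hl.mem hx
  have hr' : q' ∈ commSet D r := htr.mem hq'x ⟨hq'x.1, hne3, hcq⟩
  exact (hl.2.2.2.mem ⟨hr.1, hr'.2.1.symm, hr'.2.2.symm⟩ hr).2.2.symm

end Cfsg.Agent.Fischer1615
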